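import Cfsg.Agent.H90.SiftMain
import Cfsg.Agent.H90.SiftJ3.Small
import Cfsg.Agent.H90.SiftJ3.N0
import Cfsg.Agent.H90.SiftJ3.A0
import Cfsg.Agent.H90.SiftJ3.B0
import Cfsg.Agent.H90.SiftJ3.SA0
import Cfsg.Agent.H90.SiftJ3.SB0
import Cfsg.Agent.H90.SiftJ3.SC0

/-! Assembly (generated, owner: helper90). -/

set_option autoImplicit false
set_option maxRecDepth 1000000

namespace Cfsg.Agent.H90.SiftJ3

open Cfsg.Agent.CosetEnum Cfsg.Agent.H90.Sift

open Subgroup

theorem ncov : Cov (newB P Cfsg.Agent.CosetEnum.J3T6.P ws) 0 P.m :=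
  ((((Cov.of n0 rfl).trans (Cov.of n1 rfl)).trans (Cov.of n2 rfl)).trans (Cov.of n3 rfl))

section

variable {G : Type*} [Group G] [MulAction G (Fin P.m)] {g : ℕ → G} (h : LettersOK P g)

include h

theorem levA0 : LevC P (closure ({g 1, g 3, g 5} : Set G)) [] 191 mA0 6156 0 6156 :=
    ((show LevC P (closure ({g 1, g 3, g 5} : Set G)) [] 191 mA0 _ _ _ from (lvS_sound h.ra h.mem (b := 191) (show 191 < 6156 by norm_num) a0_0)).append
      (lvS_sound h.ra h.mem (b := 191) (show 191 < 6156 by norm_num) a0_1))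

theorem levA1 : LevC P (closure ({g 1, g 3, g 5} : Set G)) [191] 3793 mA1 120 0 6156 :=
    (show LevC P (closure ({g 1, g 3, g 5} : Set G)) [191] 3793 mA1 _ _ _ from (lvS_sound h.ra h.mem (b := 3793) (show 3793 < 6156 by norm_num) a1_0))

theorem levA2 : LevC P (closure ({g 1, g 3, g 5} : Set G)) [3793, 191] 671 mA2 17 0 6156 :=
    (show LevC P (closure ({g 1, g 3, g 5} : Set G)) [3793, 191] 671 mA2 _ _ _ from (lvS_sound h.ra h.mem (b := 671) (show 671 < 6156 by norm_num) a2_0))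

theorem levA3 : LevC P (closure ({g 1, g 3, g 5} : Set G)) [671, 3793, 191] 3590 mA3 4 0 6156 :=
    (show LevC P (closure ({g 1, g 3, g 5} : Set G)) [671, 3793, 191] 3590 mA3 _ _ _ from (lvS_sound h.ra h.mem (b := 3590) (show 3590 < 6156 by norm_num) a3_0))

theorem chainA : ChP P (closure ({g 1, g 3, g 5} : Set G)) lA [] :=
  ⟨(show 191 < 6156 by norm_num), (levA0 h).1, ⟨(show 3793 < 6156 by norm_num), (levA1 h).1, ⟨(show 671 < 6156 by norm_num), (levA2 h).1, ⟨(show 3590 < 6156 by norm_num), (levA3 h).1, trivial⟩⟩⟩⟩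

theorem levB0 : LevC P (closure ({g 1, g 3, g 5} : Set G)) [] 1147 mB0 6156 0 6156 :=
    ((show LevC P (closure ({g 1, g 3, g 5} : Set G)) [] 1147 mB0 _ _ _ from (lvS_sound h.ra h.mem (b := 1147) (show 1147 < 6156 by norm_num) b0_0)).append
      (lvS_sound h.ra h.mem (b := 1147) (show 1147 < 6156 by norm_num) b0_1))

theorem levB1 : LevC P (closure ({g 1, g 3, g 5} : Set G)) [1147] 790 mB1 510 0 6156 :=
    (show LevC P (closure ({g 1, g 3, g 5} : Set G)) [1147] 790 mB1 _ _ _ from (lvS_sound h.ra h.mem (b := 790) (show 790 < 6156 by norm_num) b1_0))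

theorem levB2 : LevC P (closure ({g 1, g 3, g 5} : Set G)) [790, 1147] 3184 mB2 16 0 6156 :=
    (show LevC P (closure ({g 1, g 3, g 5} : Set G)) [790, 1147] 3184 mB2 _ _ _ from (lvS_sound h.ra h.mem (b := 3184) (show 3184 < 6156 by norm_num) b2_0))

theorem chainB : ChP P (closure ({g 1, g 3, g 5} : Set G)) lB [] :=
  ⟨(show 1147 < 6156 by norm_num), (levB0 h).1, ⟨(show 790 < 6156 by norm_num), (levB1 h).1, ⟨(show 3184 < 6156 by norm_num), (levB2 h).1, trivial⟩⟩⟩

end

theorem basedA : Based P 1 lA := ⟨Nat.eq_of_beq_eq_true (by decide +kernel : Nat.beq (run P 1 191) 3793 = true), ⟨Nat.eq_of_beq_eq_true (by decide +kernel : Nat.beq (run P 1 3793) 671 = true), ⟨Nat.eq_of_beq_eq_true (by decide +kernel : Nat.beq (run P 1 671) 3590 = true), trivial⟩⟩⟩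

theorem ltA : ∀ t ∈ lA, t.1 < P.m := by decide +kernel

theorem basedB : Based P 3 lB := ⟨Nat.eq_of_beq_eq_true (by decide +kernel : Nat.beq (run P 3 1147) 790 = true), ⟨Nat.eq_of_beq_eq_true (by decide +kernel : Nat.beq (run P 3 790) 3184 = true), trivial⟩⟩

theorem ltB : ∀ t ∈ lB, t.1 < P.m := by decide +kernel

section

variable {G : Type*} [Group G] [MulAction G (Fin P.m)] {g : ℕ → G} (h : RA P g)

include h

theorem covA (hx : ExP G P lA []) : CovP P (elt g 1) (elt g 0x1) {z | ∃ w ∈ [0], z = elt g w} 191 0 P.m :=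
  (CovP.of h hx ltA basedA (show pts P 0x1 _ _ [0] (lms lA) _ _ _ = true from sA0) rfl (by decide +kernel))

theorem covB (hx : ExP G P lB []) : CovP P (elt g 3) (elt g 0x4) {z | ∃ w ∈ (gs.map fun t => t.1), z = elt g w} 1147 0 P.m :=
  ((CovP.of h hx ltB basedB (show pts P 0x4 _ _ (gs.map fun t => t.1) (lms lB) _ _ _ = true from sB0) rfl (by decide +kernel)).trans
    (CovP.of h hx ltB basedB (show pts P 0x4 _ _ (gs.map fun t => t.1) (lms lB) _ _ _ = true from sB1) rfl (by decide +kernel)))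

theorem covC (hx : ExP G P lA []) : CovP P (elt g 1) (elt g 0x9) {z | ∃ w ∈ (gc.map fun t => t.1), z = elt g w} 191 0 P.m :=
  (CovP.of h hx ltA basedA (show pts P 0x9 _ _ (gc.map fun t => t.1) (lms lA) _ _ _ = true from sC0) rfl (by decide +kernel))

end


theorem hks : ∀ m < 19, m ≠ 0 → ∃ a : ℕ, (4 ^ a * m) % 19 = 1 ∨ (4 ^ a * m) % 19 = 2 := by
  have h : ∀ m < 19, m ≠ 0 → ∃ a < 19, (4 ^ a * m) % 19 = 1 ∨ (4 ^ a * m) % 19 = 2 := by decide +kernel
  intro m h1 h2
  obtain ⟨a, _, h3⟩ := h m h1 h2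
  exact ⟨a, h3⟩

theorem concl {G : Type} [Group G] [Finite G] {f : ℕ → G} (hN : Nat.card G = 50232960) [MulAction G (Fin P.m)] (h : LettersOK P (newL f ws)) :
    Concl G (newL f ws 1) (newL f ws 3) (newL f ws 5) ((newL f ws 1) ^ 2) (elt (newL f ws) e2) (true = true) ∧
      closure ({newL f ws 1, newL f ws 3, newL f ws 5} : Set G) = ⊤ ∧ ExP G P lA [] ∧ ExP G P lB [] := by
  have cA := chainA h
  have cB := chainB h
  have hcA : Nat.card G ≤ (lA.map fun t => t.2.2).prod := by rw [hN]; decide +kernel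
  have hcB : Nat.card G ≤ (lB.map fun t => t.2.2).prod := by rw [hN]; decide +kernel
  have xA := cA.exact' hcA
  have xB := cB.exact' hcB
  have : Fact (Nat.Prime 19) := ⟨by norm_num⟩
  refine ⟨?_, cA.top hcA, xA, xB⟩
  exact sift_main h (p := 19) (by rw [hN]; decide +kernel) (hB := xB) (bA := 191) (bB := 1147) (by decide +kernel) (by decide +kernel)
    (fun i hi => covA h.ra xA i (Nat.zero_le _) hi) (fun i hi => covB h.ra xB i (Nat.zero_le _) hi)
    ⟨5, 5, by decide +kernel, by decide +kernel⟩ hks small (by norm_num) c1 c2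

end Cfsg.Agent.H90.SiftJ3
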